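import Cfsg.Agent.H249.Pi.Tra

/-!
# Automorphisms of field type of the exceptional Chevalley groups: few conjugates (helper249, S4324)

`D ∈ {G₂, F₄, E₆, E₇, E₈}`, `F` a finite field, `x` an automorphism of prime order of `D.group F`:
* `inC_of_field` : `x = conj y * d * φ`, `d` diagonal, `φ ≠ 1` a field automorphism: `InC (2 l + 2) x (conj z)` for all `z`;
* `not_fc` : then `FC s (2 l + 2) x` is false, `s` a prime divisor of the order;
* `field_or` : the factorisation of `x`.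
-/

set_option autoImplicit false
set_option linter.unusedSectionVars false

namespace Cfsg.Agent.H249.Pi.FldType

open CoxeterSystem Subgroup Cfsg Cfsg.Lie Cfsg.Lie.ChevalleyDatum
open Cfsg.Agent.ChevalleyStructure Cfsg.Agent.ChevalleyStructure.Elts Cfsg.Agent.ChevalleyStructure.CoxeterGeom
  Cfsg.Agent.ChevalleyStructure.CoxeterGeomTypes
open Cfsg.Agent.Nodes.RGDChev Cfsg.Agent.CpAut.RgdUntw Cfsg.Agent.BpExc.FamExt
  Cfsg.Agent.BpExc.FamInst Cfsg.Agent.BpExc.FamField Cfsg.Agent.H296.Core Cfsg.Agent.H249.Pi.Gen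

universe u

/-! ### `InC` and automorphisms -/

theorem inC_conj {K : Type*} [Group K] {m : ℕ} {x s ζ : MulAut K} (hx : x = ζ⁻¹ * s * ζ)
    (h : ∀ z : K, Cfsg.Agent.H216.Pi.InC m s (MulAut.conj z)) (z : K) : Cfsg.Agent.H216.Pi.InC m x (MulAut.conj z) := by
  have h1 := (h (ζ z)).tr (ζ⁻¹ : MulAut K)
  have e1 : Cfsg.Agent.H459.Rad.tr (ζ⁻¹ : MulAut K) s = x := by
    rw [hx]
    ext a
    rw [Cfsg.Agent.H459.Rad.tr_apply, MulAut.mul_apply, MulAut.mul_apply]
    rfl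
  have e2 : Cfsg.Agent.H459.Rad.tr (ζ⁻¹ : MulAut K) (MulAut.conj (ζ z)) = MulAut.conj z := by
    ext a
    rw [Cfsg.Agent.H459.Rad.tr_apply, MulAut.conj_apply, MulAut.conj_apply, map_mul, map_mul, map_inv]
    have e3 : (ζ⁻¹ : MulAut K) (ζ z) = z := MulAut.inv_apply_self K ζ z
    have e4 : (ζ⁻¹ : MulAut K) ((MulEquiv.symm (ζ⁻¹ : MulAut K)) a) = a := MulEquiv.apply_symm_apply _ a
    rw [e3, e4]
  rwa [e1, e2] at h1

theorem inC_of_pow {K : Type*} [Group K] {m i : ℕ} {x : MulAut K}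
    (h : ∀ z : K, Cfsg.Agent.H216.Pi.InC m (x ^ i) (MulAut.conj z)) (z : K) :
    Cfsg.Agent.H216.Pi.InC m x (MulAut.conj z) := by
  have h1 := ((Cfsg.Agent.H216.Pi.InC.self x).pow i).trans (h z)
  rwa [mul_one] at h1

theorem not_fc_of_all {K : Type*} [Group K] [Finite K] {s m : ℕ} (hs : s.Prime) (hd : s ∣ Nat.card K) {x : MulAut K}
    (hZ : center K = ⊥) (h : ∀ z : K, Cfsg.Agent.H216.Pi.InC m x (MulAut.conj z)) : ¬ Cfsg.Agent.H216.Pi.FC s m x := by
  intro hF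
  have : Fact s.Prime := ⟨hs⟩
  obtain ⟨z, hz⟩ := exists_prime_orderOf_dvd_card' (G := K) s hd
  refine hF _ (h z) ?_
  have h1 : orderOf (MulAut.conj z) = orderOf z := by
    refine orderOf_injective (MulAut.conj : K →* MulAut K) ?_ z
    rw [injective_iff_map_eq_one]
    intro a ha
    have h2 : a ∈ center K := by
      rw [mem_center_iff]
      intro b
      have h3 := congrArg (fun f : MulAut K => f b) ha
      have h4 : a * b * a⁻¹ = b := h3
      exact (mul_inv_eq_iff_eq_mul.1 h4).symm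
    rwa [hZ, mem_bot] at h2
  rw [h1, hz]

/-! ### the five types -/

/-- the five exceptional types -/
def Ex5 (D : ChevalleyDatum) : Prop := D ∈ [chevG2, chevF4, chevE6, chevE7, chevE8]

theorem Ex5.exc {D : ChevalleyDatum} (h : Ex5 D) : Exc D := by
  unfold Ex5 at h
  unfold Exc
  simp only [List.mem_cons, List.not_mem_nil, or_false] at h ⊢
  tauto

theorem Ex5.inList {D : ChevalleyDatum} (h : Ex5 D) : InList D := h.exc.inList

/-- the center over an algebraically closed field -/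
theorem Ex5.center {D : ChevalleyDatum} (h : Ex5 D) (k : Type u) [Field k] [IsAlgClosed k] :
    Subgroup.center ↥(D.group k) = ⊥ := by
  have key : IsSimpleGroup ↥(D.group k) ∧ ¬ IsMulCommutative ↥(D.group k) := by
    by_cases hG : D = chevG2
    · subst hG
      exact Cfsg.Agent.S1055.result (exists_ne_algClosed k)
    · refine Cfsg.Agent.S1054.result (F := k) D ?_
      unfold Ex5 at h
      simp only [List.mem_cons, List.not_mem_nil, or_false] at h ⊢
      tauto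
  obtain ⟨a, b⟩ := key
  refine Cfsg.Agent.KFacts.RgdLieCharP.center_eq_bot ?_
  by_contra hcon
  push Not at hcon
  exact b ⟨⟨hcon⟩⟩

/-- the type, with the inverse of the Cartan matrix -/
theorem Ex5.data {D : ChevalleyDatum} (h : Ex5 D) : ∃ (l : ℕ) (M : CoxeterMatrix (Fin l)) (_ : IsType D l M) (m : ℕ)
    (B : Fin l → Fin l → ℤ), m ≠ 0 ∧ InvC D l m B := by
  unfold Ex5 at h
  simp only [List.mem_cons, List.not_mem_nil, or_false] at h
  rcases h with rfl | rfl | rfl | rfl | rfl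
  · exact ⟨_, _, Cfsg.Agent.BpExc.RowsUntw.g2T, _, _, one_ne_zero, inv_G2⟩
  · exact ⟨_, _, Cfsg.Agent.BpExc.RowsUntw.f4T, _, _, one_ne_zero, inv_F4⟩
  · exact ⟨_, _, Cfsg.Agent.BpExc.RowsUntw.e6T, _, _, three_ne_zero, inv_E6⟩
  · exact ⟨_, _, Cfsg.Agent.BpExc.RowsUntw.e7T, _, _, two_ne_zero, inv_E7⟩
  · exact ⟨_, _, Cfsg.Agent.BpExc.RowsUntw.e8T, _, _, one_ne_zero, inv_E8⟩

/-- **Automorphisms of field type of prime order: `2 l + 2` conjugates.** -/
theorem inC_of_field {D : ChevalleyDatum} (hE : Ex5 D) {F : Type u} [Field F] [Finite F] {p : ℕ} (hpp : p.Prime)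
    {x : MulAut ↥(D.group F)} (hx : x ^ p = 1) {y : ↥(D.group F)} {d φ : MulAut ↥(D.group F)}
    (hd : D.IsDiagonalAut d) (hφ : D.IsFieldAut φ) (hφ1 : φ ≠ 1) (hxy : ∀ a, x a = y * d (φ a) * y⁻¹)
    (z : ↥(D.group F)) : Cfsg.Agent.H216.Pi.InC (2 * D.rank + 2) x (MulAut.conj z) := by
  obtain ⟨l, M, hp, m, B, hm, hB⟩ := hE.data
  obtain ⟨r, hr⟩ := CharP.exists F
  have : Fact r.Prime := ⟨CharP.char_is_prime F r⟩
  have h1 := charP_closure F r
  have hk := locFin_closure F r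
  obtain ⟨τ, rfl⟩ := Cfsg.Agent.H296.ESixGF.eq_fld hp hφ
  have hτ1 : τ ≠ 1 := by
    rintro rfl
    exact hφ1 fld_one
  obtain ⟨i, τ', ζ, hτ', hζ⟩ := Tra.main hp r (algebraMap F (AlgebraicClosure F)) hk (hE.center _) hB hm hpp hx hd hτ1 hxy
  exact inC_of_pow (inC_conj hζ (inC_exc hE.exc hτ')) z

/-- **The factorisation.** -/
theorem field_or {D : ChevalleyDatum} (hE : Ex5 D) {F : Type u} [Field F] [Finite F] {p : ℕ} (hpp : p.Prime)
    {x : MulAut ↥(D.group F)} (hx : x ^ p = 1) :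
    (∀ z, Cfsg.Agent.H216.Pi.InC (2 * D.rank + 2) x (MulAut.conj z)) ∨
    (∃ (y : ↥(D.group F)) (d : MulAut ↥(D.group F)), D.IsDiagonalAut d ∧ ∀ a, x a = y * d a * y⁻¹) ∨
    ∃ (y : ↥(D.group F)) (d g φ : MulAut ↥(D.group F)), D.IsDiagonalAut d ∧ D.IsGraphAut g ∧ g ≠ 1 ∧ D.IsFieldAut φ ∧
      ∀ a, x a = y * d (g (φ a)) * y⁻¹ := by
  obtain ⟨y, d, g, φ, hd, hg, hφ, e⟩ := Cfsg.Agent.H79.Steinberg.exists_fac hE.inList x
  by_cases hg1 : g = 1
  · subst hg1
    by_cases hφ1 : φ = 1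
    · subst hφ1
      exact Or.inr (Or.inl ⟨y, d, hd, e⟩)
    · exact Or.inl fun z => inC_of_field hE hpp hx hd hφ hφ1 e z
  · exact Or.inr (Or.inr ⟨y, d, g, φ, hd, hg, hg1, hφ, e⟩)

end Cfsg.Agent.H249.Pi.FldType
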