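import Cfsg.Agent.H249.Pi.Gen
import Cfsg.Agent.ChevalleyStructure.TwE6BN
import Cfsg.Agent.CpAut.RgdTwE6

/-!
# Few conjugates of a field automorphism generate `²E₆(q)` (helper249, S4324)

`K` with `q²` elements, `τ` an automorphism of `K` of odd prime order, `st q τ` the standard automorphism of
`twistedE6 K q`: ten conjugates generate a group containing all inner automorphisms (`inC_st`).
-/

set_option autoImplicit false
set_option linter.unusedSectionVars false

namespace Cfsg.Agent.H249.Pi.TwGen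

open Subgroup Cfsg.Lie Cfsg.Agent.ChevalleyStructure Cfsg.Agent.ChevalleyStructure.Elts
  Cfsg.Agent.ChevalleyStructure.RootWord Cfsg.Agent.H412.OT Cfsg.Agent.H249.Pi.Fld Cfsg.Agent.H249.Pi.Gen
  Cfsg.Agent.ChevStructure.FieldMap
open Cfsg.Agent.ChevalleyStructure.TwE6Basic (hE6 single_mem pair_mem twisted_le_iff exists_frob)
open Cfsg.Agent.ChevalleyStructure.TwE6BN (PairOK SingleOK single0 single1 pair2 pair3)

universe u

section Add

variable {K : Type u} [Field K] [Finite K]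

/-- the multipliers of an additive subgroup -/
def stab (A : AddSubgroup K) : Subfield K where
  carrier := {y | ∀ a ∈ A, y * a ∈ A}
  mul_mem' := fun {x y} hx hy a ha => by rw [mul_assoc]; exact hx _ (hy _ ha)
  one_mem' := fun a ha => by rwa [one_mul]
  add_mem' := fun {x y} hx hy a ha => by rw [add_mul]; exact A.add_mem (hx _ ha) (hy _ ha)
  zero_mem' := fun a _ => by rw [zero_mul]; exact A.zero_mem
  neg_mem' := fun {x} hx a ha => by rw [neg_mul]; exact A.neg_mem (hx _ ha)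
  inv_mem' := fun x hx => by
    intro a ha
    by_cases h0 : x = 0
    · rw [h0, inv_zero, zero_mul]; exact A.zero_mem
    · let f : A → A := fun b => ⟨x * b, hx _ b.2⟩
      have hf : Function.Injective f := fun b c hbc =>
        Subtype.ext (mul_left_cancel₀ h0 (congrArg Subtype.val hbc))
      obtain ⟨b, hb⟩ := (Finite.injective_iff_surjective.1 hf) ⟨a, ha⟩
      have h1 : x * (b : K) = a := congrArg Subtype.val hb
      rw [← h1, inv_mul_cancel_left₀ h0]
      exact b.2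

theorem mul_mem_of_closure {A : AddSubgroup K} {v : K} (hA : ∀ a ∈ A, v * a ∈ A) {y : K}
    (hy : y ∈ Subfield.closure ({v} : Set K)) {a : K} (ha : a ∈ A) : y * a ∈ A := by
  have h1 : Subfield.closure ({v} : Set K) ≤ stab A := by
    rw [Subfield.closure_le, Set.singleton_subset_iff]
    exact hA
  exact h1 hy a ha

end Add

section Elt

variable {K : Type u} [Field K] {q : ℕ} {φ : K →+* K} (hφ : ∀ t, φ t = t ^ q)

/-- the pair element `x_j(t) x_{j'}(t^q)` -/
def pe (q j j' : ℕ) (t : K) : GL chevE6.Idx K := xG hE6 j t * xG hE6 j' (t ^ q)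

/-- the torus element `h_j(c) h_{j'}(c^q)` -/
def hh (q j j' : ℕ) (c : K) : GL chevE6.Idx K := hG hE6 j c * hG hE6 j' (c ^ q)

include hφ in
theorem pe_add {j j' : ℕ} (hc : ∀ t u : K, xG hE6 j' u * xG hE6 j t = xG hE6 j t * xG hE6 j' u) (t u : K) :
    pe q j j' t * pe q j j' u = pe q j j' (t + u) := by
  unfold pe
  rw [← hφ, ← hφ, ← hφ, map_add, ← xG_add, ← xG_add]
  calc xG hE6 j t * xG hE6 j' (φ t) * (xG hE6 j u * xG hE6 j' (φ u))
      = xG hE6 j t * (xG hE6 j' (φ t) * xG hE6 j u) * xG hE6 j' (φ u) := by group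
    _ = _ := by rw [hc]; group

include hφ in
theorem pe_zero (j j' : ℕ) : pe q j j' (0 : K) = 1 := by
  unfold pe
  rw [← hφ, map_zero, xG_zero, xG_zero, one_mul]

include hφ in
theorem pe_neg {j j' : ℕ} (hc : ∀ t u : K, xG hE6 j' u * xG hE6 j t = xG hE6 j t * xG hE6 j' u) (t : K) :
    pe q j j' (-t) = (pe q j j' t)⁻¹ := by
  rw [← mul_eq_one_iff_eq_inv, pe_add hφ hc, neg_add_cancel, pe_zero hφ]

include hφ in
theorem pe_span [Finite K] {j j' : ℕ} (hc : ∀ t u : K, xG hE6 j' u * xG hE6 j t = xG hE6 j t * xG hE6 j' u)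
    {H : Subgroup (GL chevE6.Idx K)} {z : GL chevE6.Idx K} (hz : z ∈ H) {v : K} (hv : Gn v)
    (hact : ∀ t, z * pe q j j' t * z⁻¹ = pe q j j' (v * t)) {d : K} (hd0 : d ≠ 0) (hd : pe q j j' d ∈ H) :
    ∀ t, pe q j j' t ∈ H := by
  let A : AddSubgroup K :=
    { carrier := {t | pe q j j' t ∈ H}
      add_mem' := fun {a b} ha hb => by
        show pe q j j' (a + b) ∈ H
        rw [← pe_add hφ hc]; exact H.mul_mem ha hb
      zero_mem' := by
        show pe q j j' 0 ∈ H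
        rw [pe_zero hφ]; exact H.one_mem
      neg_mem' := fun {a} ha => by
        show pe q j j' (-a) ∈ H
        rw [pe_neg hφ hc]; exact H.inv_mem ha }
  have key : A = ⊤ := by
    refine addSubgroup_eq_top hv hd0 hd fun a ha => ?_
    show pe q j j' (v * a) ∈ H
    rw [← hact]
    exact H.mul_mem (H.mul_mem hz ha) (H.inv_mem hz)
  intro t
  have : t ∈ A := by rw [key]; trivial
  exact this

theorem single_span [Finite K] {r : ℕ} {H : Subgroup (GL chevE6.Idx K)} {z : GL chevE6.Idx K} (hz : z ∈ H) {w : K}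
    (hact : ∀ t, z * xG hE6 r t * z⁻¹ = xG hE6 r (w * t)) {d : K} (hd0 : d ≠ 0) (hd : xG hE6 r d ∈ H) {t : K}
    (ht : t / d ∈ Subfield.closure ({w} : Set K)) : xG hE6 r t ∈ H := by
  let A : AddSubgroup K :=
    { carrier := {t | xG hE6 r t ∈ H}
      add_mem' := fun {a b} ha hb => by
        show xG hE6 r (a + b) ∈ H
        rw [← xG_add]; exact H.mul_mem ha hb
      zero_mem' := by
        show xG hE6 r 0 ∈ H
        rw [xG_zero]; exact H.one_mem
      neg_mem' := fun {a} ha => by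
        show xG hE6 r (-a) ∈ H
        rw [← xG_inv]; exact H.inv_mem ha }
  have h1 : t / d * d ∈ A := mul_mem_of_closure (A := A) (v := w) (fun a ha => by
    show xG hE6 r (w * a) ∈ H
    rw [← hact]
    exact H.mul_mem (H.mul_mem hz ha) (H.inv_mem hz)) ht hd
  rw [div_mul_cancel₀ t hd0] at h1
  exact h1

theorem hh_conj {j j' a : ℕ} (hj : j < chevE6.nroots) (hj' : j' < chevE6.nroots) (ha : a < chevE6.nroots) {c : K}
    (hc : c ≠ 0) {m m' : ℤ} (hm : pr chevE6 j a = m) (hm' : pr chevE6 j' a = m') (t : K) :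
    hh q j j' c * xG hE6 a t * (hh q j j' c)⁻¹ = xG hE6 a (c ^ m * ((c ^ q) ^ m' * t)) := by
  unfold hh
  have e : hG hE6 j c * hG hE6 j' (c ^ q) * xG hE6 a t * (hG hE6 j c * hG hE6 j' (c ^ q))⁻¹ =
      hG hE6 j c * (hG hE6 j' (c ^ q) * xG hE6 a t * (hG hE6 j' (c ^ q))⁻¹) * (hG hE6 j c)⁻¹ := by group
  rw [e, hG_conj_xG hE6 hj' ha (pow_ne_zero q hc), hm', hG_conj_xG hE6 hj ha hc, hm]

include hφ in
theorem hh_pe {j j' a a' : ℕ} (hj : j < chevE6.nroots) (hj' : j' < chevE6.nroots) (ha : a < chevE6.nroots)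
    (ha' : a' < chevE6.nroots) {c : K} (hc : c ≠ 0) {m : ℤ} (h1 : pr chevE6 j a = m) (h2 : pr chevE6 j' a = 0)
    (h3 : pr chevE6 j a' = 0) (h4 : pr chevE6 j' a' = m) (t : K) :
    hh q j j' c * pe q a a' t * (hh q j j' c)⁻¹ = pe q a a' (c ^ m * t) := by
  unfold pe
  have e : hh q j j' c * (xG hE6 a t * xG hE6 a' (t ^ q)) * (hh q j j' c)⁻¹ =
      (hh q j j' c * xG hE6 a t * (hh q j j' c)⁻¹) * (hh q j j' c * xG hE6 a' (t ^ q) * (hh q j j' c)⁻¹) := by group
  rw [e, hh_conj hj hj' ha hc h1 h2, hh_conj hj hj' ha' hc h3 h4, zpow_zero, zpow_zero, one_mul, one_mul,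
    ← hφ, ← hφ, ← hφ, map_mul, map_zpow₀]

theorem nG_pair {i : Fin 4} {j j' : ℕ} (C : PairOK.{u} i j j') (a b : K) :
    nG hE6 j a * nG hE6 j' b = (xG hE6 j a * xG hE6 j' b) *
      (xG hE6 (chevE6.neg j) (-a⁻¹) * xG hE6 (chevE6.neg j') (-b⁻¹)) * (xG hE6 j a * xG hE6 j' b) := by
  rw [nG_def, nG_def]
  have h1 : xG hE6 j a * xG hE6 j' b = xG hE6 j' b * xG hE6 j a := (C.comm1 a b).symm
  have h2 : xG hE6 j a * xG hE6 (chevE6.neg j') (-b⁻¹) = xG hE6 (chevE6.neg j') (-b⁻¹) * xG hE6 j a :=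
    (C.comm2 a (-b⁻¹)).symm
  have h3 : xG hE6 (chevE6.neg j) (-a⁻¹) * xG hE6 j' b = xG hE6 j' b * xG hE6 (chevE6.neg j) (-a⁻¹) :=
    (C.comm3 (-a⁻¹) b).symm
  calc xG hE6 j a * (xG hE6 (chevE6.neg j) (-a⁻¹) * xG hE6 j a) *
        (xG hE6 j' b * (xG hE6 (chevE6.neg j') (-b⁻¹) * xG hE6 j' b))
      = xG hE6 j a * xG hE6 (chevE6.neg j) (-a⁻¹) * (xG hE6 j a * xG hE6 j' b) *
          xG hE6 (chevE6.neg j') (-b⁻¹) * xG hE6 j' b := by group
    _ = xG hE6 j a * xG hE6 (chevE6.neg j) (-a⁻¹) * (xG hE6 j' b * xG hE6 j a) *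
          xG hE6 (chevE6.neg j') (-b⁻¹) * xG hE6 j' b := by rw [h1]
    _ = xG hE6 j a * (xG hE6 (chevE6.neg j) (-a⁻¹) * xG hE6 j' b) *
          (xG hE6 j a * xG hE6 (chevE6.neg j') (-b⁻¹)) * xG hE6 j' b := by group
    _ = xG hE6 j a * (xG hE6 j' b * xG hE6 (chevE6.neg j) (-a⁻¹)) *
          (xG hE6 (chevE6.neg j') (-b⁻¹) * xG hE6 j a) * xG hE6 j' b := by rw [h2, h3]
    _ = _ := by group

include hφ in
theorem hh_mem {i : Fin 4} {j j' : ℕ} (C : PairOK.{u} i j j') {H : Subgroup (GL chevE6.Idx K)}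
    (h1 : ∀ t, pe q j j' t ∈ H) (h2 : ∀ t, pe q (chevE6.neg j) (chevE6.neg j') t ∈ H) (c : K) :
    hh q j j' c ∈ H := by
  have key : ∀ c : K, nG hE6 j c * nG hE6 j' (c ^ q) ∈ H := by
    intro c
    rw [nG_pair C]
    have h4 := h2 (-c⁻¹)
    have h3 : (-c⁻¹) ^ q = -(c ^ q)⁻¹ := by rw [← hφ, map_neg, map_inv₀, hφ]
    unfold pe at h4
    rw [h3] at h4
    exact mul_mem (mul_mem (h1 c) h4) (h1 c)
  have h3 : hh q j j' c = (nG hE6 j c * nG hE6 j' (c ^ q)) *
      (nG hE6 j (-1) * nG hE6 j' ((-1) ^ q)) := by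
    unfold hh
    rw [hG_def, hG_def]
    have h2 : nG hE6 j' (c ^ q) * nG hE6 j (-1) = nG hE6 j (-1) * nG hE6 j' (c ^ q) := (C.commN (-1) (c ^ q)).eq
    have h3 : (-1 : K) ^ q = -1 := by rw [← hφ, map_neg, map_one]
    rw [h3]
    calc nG hE6 j c * nG hE6 j (-1) * (nG hE6 j' (c ^ q) * nG hE6 j' (-1))
        = nG hE6 j c * (nG hE6 j (-1) * nG hE6 j' (c ^ q)) * nG hE6 j' (-1) := by group
      _ = nG hE6 j c * (nG hE6 j' (c ^ q) * nG hE6 j (-1)) * nG hE6 j' (-1) := by rw [h2]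
      _ = _ := by group
  rw [h3]
  exact mul_mem (key c) (key (-1))

include hφ in
theorem hG_mem_single {j : ℕ} {H : Subgroup (GL chevE6.Idx K)}
    (h1 : ∀ t : K, t ^ q = t → xG hE6 j t ∈ H) (h2 : ∀ t : K, t ^ q = t → xG hE6 (chevE6.neg j) t ∈ H) {c : K}
    (hc : c ^ q = c) : hG hE6 j c ∈ H := by
  have key : ∀ c : K, c ^ q = c → nG hE6 j c ∈ H := by
    intro c hc
    rw [nG_def]
    have h3 := h2 (-c⁻¹) (by rw [← hφ, map_neg, map_inv₀, hφ, hc])
    exact mul_mem (h1 c hc) (mul_mem h3 (h1 c hc))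
  rw [hG_def]
  exact mul_mem (key c hc) (key (-1) (by rw [← hφ, map_neg, map_one]))

end Elt

section Crit

variable {K : Type u} [Field K] [Fintype K] {q : ℕ} {φ : K →+* K} (hφ : ∀ t, φ t = t ^ q)

theorem exists_prim (hK : Fintype.card K = q ^ 2) (hq1 : 1 < q) : ∃ c : K, c ≠ 0 ∧ Gn c ∧
    ∀ t : K, t ^ q = t → t ∈ Subfield.closure ({c ^ (q + 1)} : Set K) := by
  obtain ⟨c, hc⟩ := IsCyclic.exists_monoid_generator (α := Kˣ)
  have ho : orderOf c = (q + 1) * (q - 1) := by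
    rw [orderOf_eq_card_of_forall_mem_powers hc, Nat.card_units, Nat.card_eq_fintype_card, hK]
    have := Nat.sq_sub_sq q 1
    rwa [one_pow] at this
  refine ⟨c, c.ne_zero, fun S hS => ?_, fun t ht => ?_⟩
  · rw [eq_top_iff]
    intro t _
    by_cases h0 : t = 0
    · rw [h0]; exact S.zero_mem
    · obtain ⟨k, hk⟩ := hc (Units.mk0 t h0)
      have h1 : (c : K) ^ k = t := by
        have := congrArg Units.val hk
        simpa using this
      rw [← h1]
      exact S.pow_mem hS k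
  · by_cases h0 : t = 0
    · rw [h0]; exact Subfield.zero_mem _
    · obtain ⟨k, hk⟩ := hc (Units.mk0 t h0)
      have hk' : c ^ k = Units.mk0 t h0 := hk
      have h1 : (c : K) ^ k = t := by
        have := congrArg Units.val hk'
        simpa using this
      have h2 : c ^ (k * (q - 1)) = 1 := by
        have h3 : (c ^ k) ^ q = c ^ k := by
          rw [hk']
          apply Units.ext
          rw [Units.val_pow_eq_pow_val]
          exact ht
        have h4 : c ^ (k * (q - 1)) * c ^ k = c ^ k := by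
          rw [← pow_add, ← Nat.mul_succ, show (q - 1).succ = q by omega, pow_mul, h3]
        exact mul_eq_right.1 h4
      have h3 := orderOf_dvd_of_pow_eq_one h2
      rw [ho] at h3
      obtain ⟨m, rfl⟩ := Nat.dvd_of_mul_dvd_mul_right (by omega) h3
      rw [← h1, pow_mul]
      exact Subfield.pow_mem _ (Subfield.subset_closure (Set.mem_singleton _)) m

theorem n42 : chevE6.neg 42 = 29 := by decide +kernel
theorem n37 : chevE6.neg 37 = 34 := by decide +kernel
theorem n56 : chevE6.neg 56 = 15 := by decide +kernel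
theorem n36 : chevE6.neg 36 = 35 := by decide +kernel
theorem n39 : chevE6.neg 39 = 32 := by decide +kernel

include hφ in
/-- **The generation criterion.** -/
theorem twisted_le (hqq : ∀ t : K, (t ^ q) ^ q = t) (hK : Fintype.card K = q ^ 2) (hq1 : 1 < q)
    {H : Subgroup (GL chevE6.Idx K)} {z : GL chevE6.Idx K}
    (hz : z ∈ H) {v : K} (hv : Gn v) (hpos : ∀ t, z * pe q 42 37 t * z⁻¹ = pe q 42 37 (v⁻¹ * t))
    (hneg : ∀ t, z * pe q 29 34 t * z⁻¹ = pe q 29 34 (v * t))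
    {d : K} (hd0 : d ≠ 0) (hdq : d ^ q = d) (hs : ∀ r ∈ [46, 25, 39, 32], xG hE6 r d ∈ H)
    (hp : ∀ rs ∈ [(56, 36), (15, 35), (42, 37), (29, 34)], pe q rs.1 rs.2 d ∈ H) : twistedE6 K q ≤ H := by
  obtain ⟨c, hc0, hc, hcl⟩ := exists_prim (K := K) hK hq1
  have lt : ∀ a < 72, a < chevE6.nroots := fun a h => h
  have c2 : ∀ t u : K, xG hE6 37 u * xG hE6 42 t = xG hE6 42 t * xG hE6 37 u := pair2.comm1
  have c2' : ∀ t u : K, xG hE6 34 u * xG hE6 29 t = xG hE6 29 t * xG hE6 34 u := by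
    have := pair2.{u}.comm4 (K := K)
    rwa [n42, n37] at this
  have c3 : ∀ t u : K, xG hE6 36 u * xG hE6 56 t = xG hE6 56 t * xG hE6 36 u := pair3.comm1
  have c3' : ∀ t u : K, xG hE6 35 u * xG hE6 15 t = xG hE6 15 t * xG hE6 35 u := by
    have := pair3.{u}.comm4 (K := K)
    rwa [n56, n36] at this
  -- the pair (3, 5)
  have p2 : ∀ t : K, pe q 42 37 t ∈ H := pe_span hφ c2 hz hv.inv hpos hd0 (hp (42, 37) (by simp))
  have p2' : ∀ t : K, pe q 29 34 t ∈ H := pe_span hφ c2' hz hv hneg hd0 (hp (29, 34) (by simp))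
  have hh2 : ∀ c : K, hh q 42 37 c ∈ H := fun c => hh_mem hφ pair2 p2 (by rw [n42, n37]; exact p2') c
  -- the pair (1, 6)
  have p3 : ∀ t : K, pe q 56 36 t ∈ H := by
    refine pe_span hφ c3 (hh2 c) hc.inv (fun t => ?_) hd0 (hp (56, 36) (by simp))
    have := hh_pe hφ (lt 42 (by norm_num)) (lt 37 (by norm_num)) (lt 56 (by norm_num)) (lt 36 (by norm_num)) hc0
      (m := -1) (by decide +kernel) (by decide +kernel) (by decide +kernel) (by decide +kernel) t
    rwa [zpow_neg_one] at this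
  have p3' : ∀ t : K, pe q 15 35 t ∈ H := by
    refine pe_span hφ c3' (hh2 c) hc (fun t => ?_) hd0 (hp (15, 35) (by simp))
    have := hh_pe hφ (lt 42 (by norm_num)) (lt 37 (by norm_num)) (lt 15 (by norm_num)) (lt 35 (by norm_num)) hc0
      (m := 1) (by decide +kernel) (by decide +kernel) (by decide +kernel) (by decide +kernel) t
    rwa [zpow_one] at this
  -- the node 4
  have hdiv : ∀ t : K, t ^ q = t → t / d ∈ Subfield.closure ({c ^ (q + 1)} : Set K) := fun t ht =>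
    hcl _ (by rw [div_pow, ht, hdq])
  have hcq : (c ^ (q + 1)) ^ q = c ^ (q + 1) := by
    rw [pow_succ, mul_pow, hqq, mul_comm]
  have hcn : c ^ (q + 1) ≠ 0 := pow_ne_zero _ hc0
  have hdiv' : ∀ t : K, t ^ q = t → t / d ∈ Subfield.closure ({(c ^ (q + 1))⁻¹} : Set K) := fun t ht => by
    have h1 : Subfield.closure ({c ^ (q + 1)} : Set K) ≤ Subfield.closure ({(c ^ (q + 1))⁻¹} : Set K) := by
      rw [Subfield.closure_le, Set.singleton_subset_iff]
      have := Subfield.inv_mem _ (Subfield.subset_closure (Set.mem_singleton (c ^ (q + 1))⁻¹))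
      rwa [inv_inv] at this
    exact h1 (hdiv t ht)
  have s1 : ∀ t : K, t ^ q = t → xG hE6 39 t ∈ H := by
    intro t ht
    refine single_span (hh2 c) (w := (c ^ (q + 1))⁻¹) (fun t => ?_) hd0 (hs 39 (by simp)) (hdiv' t ht)
    rw [hh_conj (lt 42 (by norm_num)) (lt 37 (by norm_num)) (lt 39 (by norm_num)) hc0 (m := -1) (m' := -1)
      (by decide +kernel) (by decide +kernel), zpow_neg_one, zpow_neg_one, ← mul_assoc, ← mul_inv, ← pow_succ']
  have s1' : ∀ t : K, t ^ q = t → xG hE6 32 t ∈ H := by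
    intro t ht
    refine single_span (hh2 c) (w := c ^ (q + 1)) (fun t => ?_) hd0 (hs 32 (by simp)) (hdiv t ht)
    rw [hh_conj (lt 42 (by norm_num)) (lt 37 (by norm_num)) (lt 32 (by norm_num)) hc0 (m := 1) (m' := 1)
      (by decide +kernel) (by decide +kernel), zpow_one, zpow_one, ← mul_assoc, ← pow_succ']
  -- the node 2
  have h39 : hG hE6 39 (c ^ (q + 1)) ∈ H := hG_mem_single hφ s1 (by rw [n39]; exact s1') hcq
  have s0 : ∀ t : K, t ^ q = t → xG hE6 46 t ∈ H := by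
    intro t ht
    refine single_span h39 (w := (c ^ (q + 1))⁻¹) (fun t => ?_) hd0 (hs 46 (by simp)) (hdiv' t ht)
    have hpr : pr chevE6 39 46 = -1 := by decide +kernel
    rw [hG_conj_xG hE6 (lt 39 (by norm_num)) (lt 46 (by norm_num)) hcn, hpr, zpow_neg_one]
  have s0' : ∀ t : K, t ^ q = t → xG hE6 25 t ∈ H := by
    intro t ht
    refine single_span h39 (w := c ^ (q + 1)) (fun t => ?_) hd0 (hs 25 (by simp)) (hdiv t ht)
    have hpr : pr chevE6 39 25 = 1 := by decide +kernel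
    rw [hG_conj_xG hE6 (lt 39 (by norm_num)) (lt 25 (by norm_num)) hcn, hpr, zpow_one]
  rw [twisted_le_iff]
  constructor
  · intro t ht r hr
    simp only [List.mem_cons, List.not_mem_nil, or_false] at hr
    rcases hr with rfl | rfl | rfl | rfl
    · exact s0 t ht
    · exact s0' t ht
    · exact s1 t ht
    · exact s1' t ht
  · intro t rs hr
    simp only [List.mem_cons, List.not_mem_nil, or_false] at hr
    rcases hr with rfl | rfl | rfl | rfl
    · exact p3 t
    · exact p3' t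
    · exact p2 t
    · exact p2' t

end Crit

section Fld

variable {K : Type u} [Field K] [Fintype K] {q : ℕ} {φ : K →+* K} (hφ : ∀ t, φ t = t ^ q)

/-- a field automorphism of odd order moves an element of the subfield -/
theorem exists_moved (hqq : ∀ t : K, (t ^ q) ^ q = t) (hφ : ∀ t, φ t = t ^ q) {τ : K ≃+* K} {p : ℕ} (hp2 : ¬ 2 ∣ p)
    (hτp : τ ^ p = 1) (hτ : τ ≠ 1) : ∃ e : K, e ^ q = e ∧ τ e ≠ e := by
  by_contra hcon
  push Not at hcon
  have h1 : ∀ a : K, τ a = a ∨ τ a = a ^ q := by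
    intro a
    have h2 : τ (a + a ^ q) = a + a ^ q := hcon _ (by rw [← hφ, map_add, hφ, hφ, hqq, add_comm])
    have h3 : τ (a * a ^ q) = a * a ^ q := hcon _ (by rw [← hφ, map_mul, hφ, hφ, hqq, mul_comm])
    have h4 : (τ a - a) * (τ a - a ^ q) = 0 := by
      rw [map_add] at h2
      rw [map_mul] at h3
      have h5 : τ (a ^ q) = a + a ^ q - τ a := by rw [← h2]; ring
      rw [h5] at h3
      linear_combination -h3
    rcases mul_eq_zero.1 h4 with h5 | h5
    · exact Or.inl (sub_eq_zero.1 h5)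
    · exact Or.inr (sub_eq_zero.1 h5)
  -- `τ * τ = 1`
  have h2 : τ * τ = 1 := by
    ext a
    rw [RingAut.mul_apply, RingAut.one_apply]
    rcases h1 a with h3 | h3
    · rw [h3, h3]
    · rw [h3, map_pow, h3, hqq]
  apply hτ
  have h3 : orderOf τ ∣ 2 := orderOf_dvd_of_pow_eq_one (by rw [pow_two]; exact h2)
  have h4 : orderOf τ ∣ p := orderOf_dvd_of_pow_eq_one hτp
  rcases (Nat.dvd_prime Nat.prime_two).1 h3 with h5 | h5
  · exact orderOf_eq_one_iff.1 h5
  · rw [h5] at h4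
    exact absurd h4 hp2

include hφ in
theorem hh_quot {j j' a a' : ℕ} (hj : j < chevE6.nroots) (hj' : j' < chevE6.nroots) (ha : a < chevE6.nroots)
    (ha' : a' < chevE6.nroots) {c c' : K} (hc : c ≠ 0) (hc' : c' ≠ 0) {m : ℤ} (h1 : pr chevE6 j a = m)
    (h2 : pr chevE6 j' a = 0) (h3 : pr chevE6 j a' = 0) (h4 : pr chevE6 j' a' = m) (t : K) :
    (hh q j j' c * (hh q j j' c')⁻¹) * pe q a a' t * (hh q j j' c * (hh q j j' c')⁻¹)⁻¹ =
      pe q a a' ((c * c'⁻¹) ^ m * t) := by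
  have h5 := hh_pe (q := q) hφ hj hj' ha ha' hc' h1 h2 h3 h4 ((c' ^ m)⁻¹ * t)
  rw [mul_inv_cancel_left₀ (zpow_ne_zero m hc')] at h5
  have h6 := hh_pe (q := q) hφ hj hj' ha ha' hc h1 h2 h3 h4 ((c' ^ m)⁻¹ * t)
  have h7 : (hh q j j' c')⁻¹ * pe q a a' t * hh q j j' c' = pe q a a' ((c' ^ m)⁻¹ * t) := by
    rw [← h5]; group
  have e : (hh q j j' c * (hh q j j' c')⁻¹) * pe q a a' t * (hh q j j' c * (hh q j j' c')⁻¹)⁻¹ =
      hh q j j' c * ((hh q j j' c')⁻¹ * pe q a a' t * hh q j j' c') * (hh q j j' c)⁻¹ := by group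
  rw [e, h7, h6, mul_zpow, inv_zpow, mul_assoc]

theorem glE_pe (τ : K ≃+* K) (j j' : ℕ) (t : K) : glEquiv chevE6 τ (pe q j j' t) = pe q j j' (τ t) := by
  unfold pe
  rw [map_mul, Cfsg.Agent.CpAut.RgdTwStd.glE_xG, Cfsg.Agent.CpAut.RgdTwStd.glE_xG, map_pow]

theorem glE_nG (τ : K ≃+* K) (r : ℕ) (t : K) : glEquiv chevE6 τ (nG hE6 r t) = nG hE6 r (τ t) := by
  rw [nG_def, nG_def, map_mul, map_mul, Cfsg.Agent.CpAut.RgdTwStd.glE_xG, Cfsg.Agent.CpAut.RgdTwStd.glE_xG, map_neg,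
    map_inv₀]

theorem glE_hh (τ : K ≃+* K) (j j' : ℕ) (t : K) : glEquiv chevE6 τ (hh q j j' t) = hh q j j' (τ t) := by
  unfold hh
  rw [hG_def, hG_def, hG_def, hG_def, map_mul, map_mul, map_mul, glE_nG, glE_nG, glE_nG, glE_nG, map_neg, map_one,
    map_pow]

include hφ in
/-- **Ten conjugates of a field automorphism of odd order of `²E₆(q)`.** -/
theorem inC_st (hqq : ∀ t : K, (t ^ q) ^ q = t) (hK : Fintype.card K = q ^ 2) (hq1 : 1 < q) {τ : K ≃+* K} {p : ℕ}
    (hp2 : ¬ 2 ∣ p) (hτp : τ ^ p = 1) (hτ : τ ≠ 1) {x : MulAut ↥(twistedE6 K q)}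
    (hx : ∀ g, ((x g : ↥(twistedE6 K q)) : GL chevE6.Idx K) = glEquiv chevE6 τ (g : GL chevE6.Idx K))
    (z : ↥(twistedE6 K q)) :
    Cfsg.Agent.H216.Pi.InC 10 x (MulAut.conj z) := by
  obtain ⟨e, heq, he⟩ := exists_moved hqq hφ hp2 hτp hτ
  obtain ⟨c, hc0, hc⟩ := exists_gen τ hτ
  have hc0' : τ c ≠ 0 := by simpa using hc0
  have lt : ∀ a < 72, a < chevE6.nroots := fun a h => h
  -- the elements
  have hk : hh q 56 36 c ∈ twistedE6 K q := hh_mem hφ pair3 (fun t => pair_mem (rs := (56, 36)) t (by simp))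
    (by rw [n56, n36]; exact fun t => pair_mem (rs := (15, 35)) t (by simp)) c
  let S : ∀ r ∈ [46, 25, 39, 32], ↥(twistedE6 K q) := fun r hr => ⟨xG hE6 r e, single_mem heq hr⟩
  let P : ∀ rs ∈ [(56, 36), (15, 35), (42, 37), (29, 34)], ↥(twistedE6 K q) := fun rs hr =>
    ⟨pe q rs.1 rs.2 e, pair_mem e hr⟩
  let f : Fin 10 → ↥(twistedE6 K q) := ![1, ⟨hh q 56 36 c, hk⟩, S 46 (by simp), S 25 (by simp), S 39 (by simp),
    S 32 (by simp), P (56, 36) (by simp), P (15, 35) (by simp), P (42, 37) (by simp), P (29, 34) (by simp)]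
  refine ⟨f, ?_⟩
  have hm : ∀ i, ((f i : ↥(twistedE6 K q)) : GL chevE6.Idx K) * (glEquiv chevE6 τ (f i))⁻¹ ∈
      (Hf x f).map (twistedE6 K q).subtype := by
    intro i
    have h1 := Hf_mem x f (i1 := 0) rfl i
    refine ⟨_, h1, ?_⟩
    show (((f i) * (x (f i))⁻¹ : ↥(twistedE6 K q)) : GL chevE6.Idx K) = _
    rw [Subgroup.coe_mul, Subgroup.coe_inv, hx]
  have hd : (e - τ e) ^ q = e - τ e := by
    rw [← hφ, map_sub, hφ, hφ, heq, ← map_pow, heq]
  have hd0 : e - τ e ≠ 0 := sub_ne_zero.2 (Ne.symm he)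
  have hS : ∀ r, ∀ hr : r ∈ [46, 25, 39, 32], ∀ i, f i = S r hr → xG hE6 r (e - τ e) ∈
      (Hf x f).map (twistedE6 K q).subtype := by
    intro r hr i hi
    have h1 := hm i
    rw [hi] at h1
    have h2 : ((S r hr : ↥(twistedE6 K q)) : GL chevE6.Idx K) = xG hE6 r e := rfl
    rwa [h2, Cfsg.Agent.CpAut.RgdTwStd.glE_xG, xG_inv, xG_add, ← sub_eq_add_neg] at h1
  have hP : ∀ rs, ∀ hr : rs ∈ [(56, 36), (15, 35), (42, 37), (29, 34)],
      (∀ t u : K, xG hE6 rs.2 u * xG hE6 rs.1 t = xG hE6 rs.1 t * xG hE6 rs.2 u) → ∀ i, f i = P rs hr →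
      pe q rs.1 rs.2 (e - τ e) ∈ (Hf x f).map (twistedE6 K q).subtype := by
    intro rs hr hcc i hi
    have h1 := hm i
    rw [hi] at h1
    have h2 : ((P rs hr : ↥(twistedE6 K q)) : GL chevE6.Idx K) = pe q rs.1 rs.2 e := rfl
    rwa [h2, glE_pe, ← pe_neg hφ hcc, pe_add hφ hcc, ← sub_eq_add_neg] at h1
  have key : twistedE6 K q ≤ (Hf x f).map (twistedE6 K q).subtype := by
    refine twisted_le hφ hqq hK hq1 (z := hh q 56 36 c * (hh q 56 36 (τ c))⁻¹) ?_ hc (fun t => ?_) (fun t => ?_) hd0 hd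
      ?_ ?_
    · have h1 := hm 1
      have h2 : ((f 1 : ↥(twistedE6 K q)) : GL chevE6.Idx K) = hh q 56 36 c := rfl
      rwa [h2, glE_hh] at h1
    · rw [hh_quot hφ (lt 56 (by norm_num)) (lt 36 (by norm_num)) (lt 42 (by norm_num)) (lt 37 (by norm_num)) hc0 hc0'
        (m := -1) (by decide +kernel) (by decide +kernel) (by decide +kernel) (by decide +kernel), zpow_neg_one]
    · rw [hh_quot hφ (lt 56 (by norm_num)) (lt 36 (by norm_num)) (lt 29 (by norm_num)) (lt 34 (by norm_num)) hc0 hc0'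
        (m := 1) (by decide +kernel) (by decide +kernel) (by decide +kernel) (by decide +kernel), zpow_one]
    · intro r hr
      simp only [List.mem_cons, List.not_mem_nil, or_false] at hr
      rcases hr with rfl | rfl | rfl | rfl
      · exact hS 46 (by simp) 2 rfl
      · exact hS 25 (by simp) 3 rfl
      · exact hS 39 (by simp) 4 rfl
      · exact hS 32 (by simp) 5 rfl
    · intro rs hr
      simp only [List.mem_cons, List.not_mem_nil, or_false] at hr
      rcases hr with rfl | rfl | rfl | rfl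
      · exact hP (56, 36) (by simp) (pair3.{u}.comm1 (K := K)) 6 rfl
      · refine hP (15, 35) (by simp) ?_ 7 rfl
        have := pair3.{u}.comm4 (K := K)
        rwa [n56, n36] at this
      · exact hP (42, 37) (by simp) (pair2.{u}.comm1 (K := K)) 8 rfl
      · refine hP (29, 34) (by simp) ?_ 9 rfl
        have := pair2.{u}.comm4 (K := K)
        rwa [n42, n37] at this
  obtain ⟨w, hw, hwz⟩ := key z.2
  have h2 : w = z := Subtype.ext hwz
  rw [h2] at hw
  exact hw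

end Fld

end Cfsg.Agent.H249.Pi.TwGen
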