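import Cfsg.Agent.H249.Pi.GenInst
import Cfsg.Agent.H296.ESixGF
import Cfsg.Agent.H79.Steinberg

/-!
# Automorphisms of field type of prime order are standard up to conjugacy (helper249, S4324)

`x = conj y * d * fld τ` (`d` diagonal, `τ ≠ 1`), `x ^ p = 1`: some power `x ^ i`, `i` prime to `p`, is conjugate in
`Aut (D.group F)` to a field automorphism `fld D τ'`, `τ' ≠ 1`.
* `std_pow`, `exists_conj_pow` : the abstract argument (Lang);
* `main` : the result;
* `inC_fld_type` : `InC (2 l + 2) x (conj z)` for all `z`.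
-/

set_option autoImplicit false
set_option linter.unusedSectionVars false

namespace Cfsg.Agent.H249.Pi.Tra

open CoxeterSystem Subgroup Cfsg Cfsg.Lie Cfsg.Lie.ChevalleyDatum
open Cfsg.Agent.ChevalleyStructure Cfsg.Agent.ChevalleyStructure.Elts Cfsg.Agent.ChevalleyStructure.CoxeterGeom
  Cfsg.Agent.ChevalleyStructure.CoxeterGeomTypes
open Cfsg.Agent.Nodes.RGDChev Cfsg.Agent.KFacts.RgdChevCoord Cfsg.Agent.CpAut.RgdUntw
open Cfsg.Agent.GpExc.Field (glMap emb coe_emb glMap_xG emb_injective coe_glMap)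
open Cfsg.Agent.BpExc.FamExt Cfsg.Agent.BpExc.FamField Cfsg.Agent.BpExc.Tow
  Cfsg.Agent.BpExc.TowChev Cfsg.Agent.BpExc.FamUntw Cfsg.Agent.BpExc.FamInst
open Cfsg.Agent.H296.Core

universe u v

section Abs

variable {G Y : Type*} [Group G] [Group Y] {e : G →* Y} {σ : MulAut Y} {s x : MulAut G}

theorem iter {ρ : MulAut Y} (h : ∀ a, e (x a) = ρ (e a)) (m : ℕ) : ∀ a, e ((x ^ m) a) = (ρ ^ m) (e a) := by
  induction m with
  | zero => intro a; rw [pow_zero, pow_zero]; rfl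
  | succ m ih => intro a; rw [pow_succ, pow_succ, MulAut.mul_apply, MulAut.mul_apply, ih, h]

theorem form {y z : Y} (hz : y = z⁻¹ * σ z) (b : Y) :
    y * σ b * y⁻¹ = ((MulAut.conj z)⁻¹ * σ * MulAut.conj z) b := by
  rw [hz, ← map_inv, MulAut.mul_apply, MulAut.mul_apply, MulAut.conj_apply, MulAut.conj_apply, map_mul, map_mul, map_inv]
  group

theorem std_pow (he : Function.Injective e) (hs : ∀ a, σ (e a) = e (s a)) {y : Y}
    (hxy : ∀ a, e (x a) = y * σ (e a) * y⁻¹) {p : ℕ} (hx : x ^ p = 1) {z : Y} (hz : y = z⁻¹ * σ z)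
    {G0 : Set G} (h0 : ∀ a ∈ G0, (s ^ p) a = a) (hC : ∀ c : Y, (∀ a ∈ G0, c * e a = e a * c) → c = 1) :
    s ^ p = 1 ∧ (σ ^ p) z = z := by
  have h1 : ∀ a, e (x a) = ((MulAut.conj z)⁻¹ * σ * MulAut.conj z) (e a) := fun a => by
    rw [hxy, form hz]
  have hp : ((MulAut.conj z)⁻¹ * σ * MulAut.conj z) ^ p = (MulAut.conj z)⁻¹ * σ ^ p * MulAut.conj z := by
    have := conj_pow (i := p) (a := (MulAut.conj z)⁻¹) (b := σ)
    rwa [inv_inv] at this
  have h2 : ∀ a, e a = z⁻¹ * (σ ^ p) (z * e a * z⁻¹) * z := by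
    intro a
    have h3 := iter h1 p a
    rw [hx, hp, ← map_inv, MulAut.mul_apply, MulAut.mul_apply, MulAut.conj_apply, MulAut.conj_apply, inv_inv] at h3
    exact h3
  have h3 : ∀ a, (σ ^ p) (e a) = e ((s ^ p) a) := fun a => (iter (fun a => (hs a).symm) p a).symm
  have h4 : z⁻¹ * (σ ^ p) z = 1 := by
    refine hC _ fun a ha => ?_
    have h5 := h2 a
    rw [map_mul, map_mul, h3, h0 a ha, map_inv] at h5
    conv_rhs => rw [h5]
    group
  have h5 : (σ ^ p) z = z := (inv_mul_eq_one.1 h4).symm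
  refine ⟨?_, h5⟩
  apply MulEquiv.ext
  intro a
  apply he
  have h6 := h2 a
  rw [map_mul, map_mul, map_inv, h5, h3] at h6
  show e ((s ^ p) a) = e a
  rw [h6]
  group

theorem exists_conj_pow (he : Function.Injective e) (hs : ∀ a, σ (e a) = e (s a)) {y : Y}
    (hxy : ∀ a, e (x a) = y * σ (e a) * y⁻¹) {z : Y} (hz : y = z⁻¹ * σ z) {p : ℕ} (hσz : (σ ^ p) z = z)
    (hN : ∀ z : Y, (σ ^ p) z = z → ∀ a, ∃ b, e b = z * e a * z⁻¹) :
    ∃ ζ : MulAut G, (∀ a, e (ζ a) = z * e a * z⁻¹) ∧ x = ζ⁻¹ * s * ζ := by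
  have hz' : (σ ^ p) z⁻¹ = z⁻¹ := by rw [map_inv, hσz]
  choose f hf using hN z hσz
  choose f' hf' using hN z⁻¹ hz'
  let ζ : MulAut G :=
    { toFun := f
      invFun := f'
      left_inv := fun a => he (by rw [hf', hf]; group)
      right_inv := fun a => he (by rw [hf, hf']; group)
      map_mul' := fun a b => he (by rw [hf, map_mul, map_mul, hf, hf]; group) }
  have hζ : ∀ a, e (ζ a) = z * e a * z⁻¹ := hf
  refine ⟨ζ, hζ, ?_⟩
  apply MulEquiv.ext
  intro a
  apply ζ.injective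
  apply he
  rw [hζ, hxy, hz, MulAut.mul_apply, MulAut.mul_apply, MulAut.apply_inv_self, ← hs, hζ, map_mul, map_mul, map_inv]
  group

end Abs

section Main

variable {D : ChevalleyDatum} {l : ℕ} {M : CoxeterMatrix (Fin l)} (hp : IsType D l M)
  {F : Type u} [Field F] [Finite F] {k : Type u} [Field k] (r : ℕ) [Fact r.Prime] [CharP F r]
  [CharP k r] [PerfectRing k r] (f : F →+* k)

theorem phi_emb_fld {τ : F ≃+* F} {m : ℕ} (h : ∀ a, τ a = a ^ r ^ m) (a : ↥(D.group F)) :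
    phi D k r m (emb hp.inList f a) = emb hp.inList f (fld D τ a) := by
  unfold phi
  exact fld_emb hp f (fun a => by rw [frb_apply, h, map_pow]) a

theorem fld_pow_apply (τ : F ≃+* F) (p : ℕ) {a : ↥(D.group F)} (ha : ∀ τ : F ≃+* F, fld D τ a = a) :
    ((fld D τ) ^ p) a = a := by
  rw [← fld_pow]
  exact ha _

include hp in
theorem eq_one_of_fld {τ : F ≃+* F} (h : fld D τ = 1) : τ = 1 := by
  have hr0 : 0 < D.rank := (RootComb.good_of_mem hp.inList).rank_pos
  have hs := Cfsg.Agent.H79.SimpleGen.simple_lt hp.inList hr0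
  ext a
  have h1 := congrArg (fun g : MulAut ↥(D.group F) => g (Cfsg.Agent.H79.SimpleGen.xS hp.inList (D.simple 0) a)) h
  have h2 := (Gen.isFld_groupEquiv hp.inList τ).x _ hs a
  exact Cfsg.Agent.H79.SimpleGen.xS_injective hp.inList hs (h2.symm.trans h1)

include hp r f in
/-- **Automorphisms of field type of prime order.** -/
theorem main [IsAlgClosed k] (hk : LocFin k) (hZ : center ↥(D.group k) = ⊥) {m' : ℕ}
    {B : Fin l → Fin l → ℤ} (hB : InvC D l m' B) (hm' : m' ≠ 0)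
    {x : MulAut ↥(D.group F)} {p : ℕ} (hpp : p.Prime) (hx : x ^ p = 1)
    {y : ↥(D.group F)} {d : MulAut ↥(D.group F)} (hd : D.IsDiagonalAut d) {τ : F ≃+* F} (hτ : τ ≠ 1)
    (hxy : ∀ a, x a = y * d (fld D τ a) * y⁻¹) :
    ∃ (i : ℕ) (τ' : F ≃+* F) (ζ : MulAut ↥(D.group F)), τ' ≠ 1 ∧ x ^ i = ζ⁻¹ * fld D τ' * ζ := by
  have hroots : ∀ c : F, c ≠ 0 → ∃ b : k, b ^ m' = f c := fun c _ => IsAlgClosed.exists_pow_nat_eq _ (Nat.pos_of_ne_zero hm')
  obtain ⟨t, -, ht⟩ := diag_ext hp f hB hm' hroots hd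
  obtain ⟨j, hj⟩ := exists_pow_eq r τ
  obtain ⟨n, hn0, hn⟩ := exists_card (F := F) r
  have hrn : ∀ a : F, ∀ i, a ^ r ^ (n * i) = a := fun a i => (forall_pow_iff r hn (n * i)).2 ⟨i, rfl⟩ a
  obtain ⟨m, hm0, hm⟩ : ∃ m, 0 < m ∧ ∀ a, τ a = a ^ r ^ m := by
    refine ⟨j + n, by omega, fun a => ?_⟩
    rw [hj, pow_add, pow_mul]
    have := hrn (a ^ r ^ j) 1
    rw [mul_one] at this
    rw [this]
  have hext : ∀ a, emb hp.inList f (x a) =
      (emb hp.inList f y * t) * phi D k r m (emb hp.inList f a) * (emb hp.inList f y * t)⁻¹ := by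
    intro a
    rw [hxy, map_mul, map_mul, map_inv, ht, phi_emb_fld hp r f hm]
    group
  have G := Cfsg.Agent.H296.ESixGF.gam_one hp r f hk
  have hC : ∀ c : ↥(D.group k), (∀ a ∈ {a : ↥(D.group F) | ∀ τ : F ≃+* F, fld D τ a = a},
      c * emb hp.inList f a = emb hp.inList f a * c) → c = 1 :=
    fun c hc => eq_one_of_comm_prime hp r f hk hZ hc
  -- step 1
  have hτp : τ ^ p = 1 := by
    obtain ⟨z, hz⟩ := G.lang m (by omega) (emb hp.inList f y * t)
    rw [one_mul] at hz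
    have h1 := (std_pow (emb_injective hp.inList f) (σ := phi D k r m) (s := fld D τ) (phi_emb_fld hp r f hm) hext hx hz
      (G0 := {a | ∀ τ : F ≃+* F, fld D τ a = a}) (fun a ha => fld_pow_apply τ p ha) hC).1
    rw [← fld_pow] at h1
    exact eq_one_of_fld hp h1
  obtain ⟨i, e, hi, he0, hcard, hfr⟩ := exists_field r hpp hτp hτ
  have hen : e * p = n := by
    rw [hn] at hcard
    exact (Nat.pow_right_injective (Fact.out : r.Prime).two_le hcard).symm
  have hτi : τ ^ i ≠ 1 := by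
    intro h1
    apply hτ
    have h2 : orderOf τ ∣ i := orderOf_dvd_of_pow_eq_one h1
    have h3 : orderOf τ ∣ p := orderOf_dvd_of_pow_eq_one hτp
    have h4 : orderOf τ ∣ 1 := by
      rw [← hi.gcd_eq_one]
      exact Nat.dvd_gcd h2 h3
    exact orderOf_eq_one_iff.1 (Nat.dvd_one.1 h4)
  -- step 2
  have h1 : ∀ a, emb hp.inList f (x a) =
      (MulAut.conj (emb hp.inList f y * t) * phi D k r m) (emb hp.inList f a) := by
    intro a
    rw [hext, MulAut.mul_apply, MulAut.conj_apply]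
  obtain ⟨y', hy'⟩ := Cfsg.Agent.BpExc.FamFrame.exists_conj_pow (emb hp.inList f y * t) (phi D k r m) i
  have hext' : ∀ a, emb hp.inList f ((x ^ i) a) = y' * phi D k r e (emb hp.inList f a) * y'⁻¹ := by
    intro a
    rw [iter h1 i a, hy', MulAut.mul_apply, MulAut.conj_apply, phi_pow]
    have h2 : phi D k r (m * i) (emb hp.inList f a) = phi D k r e (emb hp.inList f a) := by
      rw [phi_emb_fld hp r f (τ := τ ^ i) (pow_apply_of hm i), phi_emb_fld hp r f (τ := τ ^ i) hfr]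
    rw [h2]
  obtain ⟨z, hz⟩ := G.lang e (by omega) y'
  rw [one_mul] at hz
  have hxi : (x ^ i) ^ p = 1 := by rw [← pow_mul, mul_comm, pow_mul, hx, one_pow]
  have h2 := (std_pow (emb_injective hp.inList f) (σ := phi D k r e) (s := fld D (τ ^ i))
    (phi_emb_fld hp r f hfr) hext' hxi hz
    (G0 := {a | ∀ τ : F ≃+* F, fld D τ a = a}) (fun a ha => fld_pow_apply _ p ha) hC).2
  have := Fintype.ofFinite F
  have hq : Fintype.card F = r ^ n := by rw [← hn, Nat.card_eq_fintype_card]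
  obtain ⟨ζ, -, hζ⟩ := exists_conj_pow (emb_injective hp.inList f) (σ := phi D k r e) (s := fld D (τ ^ i))
    (phi_emb_fld hp r f hfr) hext' hz h2 (fun w hw a => by
      rw [phi_pow, hen] at hw
      exact Cfsg.Agent.BpExc.Emb.conj_mem_range hp.inList (f := f)
        (φ := ((frb k r n : k ≃+* k) : k →+* k)) (fun t => by rw [hq]; exact frb_apply k r n t)
        (σ := phi D k r n) (fun y => by apply Units.ext; rfl) hw ⟨a, rfl⟩)
  exact ⟨i, τ ^ i, ζ, hτi, hζ⟩

end Main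

end Cfsg.Agent.H249.Pi.Tra
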